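import Groth.Agent.KoszulLib.Cone
import Mathlib

/-! The Koszul complex of a scaled sequence. -/

set_option autoImplicit false
set_option linter.style.haveILetI false

universe u

open CategoryTheory CategoryTheory.Limits CochainComplex
open Groth.Agent.KoszulLib

namespace Groth.Agent.KoszulScale

variable {R : Type u} [CommRing R]

theorem scale (x : R) : ∀ l : List R, ∃ e : ∀ i : ℤ, X (l.map (fun f => x * f)) i ≃ₗ[R] X l i,
    ∀ i j : ℤ, i + 1 = j → ∀ v, e j (dL (l.map (fun f => x * f)) i j v) = x • dL l i j (e i v)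
  | [] => by
    refine ⟨fun i => LinearEquiv.refl R _, fun i j hij (v : X ([] : List R) i) => ?_⟩
    show dL ([] : List R) i j v = x • dL ([] : List R) i j v
    by_cases hi : i = 0
    · haveI := subsingleton_nil (R := R) (i := j) (by omega)
      exact Subsingleton.elim _ _
    · haveI := subsingleton_nil (R := R) (i := i) hi
      rw [Subsingleton.elim v 0, map_zero, smul_zero]
  | f :: l => by
    obtain ⟨e, he⟩ := scale x l
    let E : ∀ i : ℤ, X ((f :: l).map (fun f => x * f)) i ≃ₗ[R] X (f :: l) i := fun i =>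
      (pair (x * f) (l.map (fun f => x * f)) i (i + 1) rfl).symm ≪≫ₗ
        ((e (i + 1)).prodCongr (e i)) ≪≫ₗ pair f l i (i + 1) rfl
    refine ⟨E, fun i j hij v => ?_⟩
    subst hij
    have hfst : ∀ (n : ℤ) w, fstL f l n (n + 1) rfl (E n w) =
        e (n + 1) (fstL (x * f) (l.map (fun f => x * f)) n (n + 1) rfl w) := fun n w => by
      show fstL f l n (n + 1) rfl (inlL f l n (n + 1) rfl _ + inrL f l n _) = _
      rw [map_add, fst_inl, fst_inr, add_zero]
      rfl
    have hsnd : ∀ (n : ℤ) w, sndL f l n (E n w) =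
        e n (sndL (x * f) (l.map (fun f => x * f)) n w) := fun n w => by
      show sndL f l n (inlL f l n (n + 1) rfl _ + inrL f l n _) = _
      rw [map_add, snd_inl, snd_inr, zero_add]
      rfl
    refine ext_pair f l rfl ?_ ?_
    · rw [hfst, map_smul, fst_d f l rfl rfl, hfst]
      refine (congrArg (e (i + 1 + 1)) (fst_d (x * f) (l.map (fun f => x * f)) rfl rfl v)).trans ?_
      rw [map_neg, he _ _ rfl, smul_neg]
    · rw [hsnd, map_smul, snd_d f l rfl, hfst, hsnd]
      refine (congrArg (e (i + 1)) (snd_d (x * f) (l.map (fun f => x * f)) rfl v)).trans ?_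
      rw [map_add, map_smul, he _ _ rfl, smul_add, smul_smul]

theorem smul_inj {x : R} (hx : x ∈ nonZeroDivisors R) {M : Type u} [AddCommGroup M] [Module R M]
    [Module.Free R M] {v : M} (h : x • v = 0) : v = 0 := by
  let b := Module.Free.chooseBasis R M
  refine b.repr.map_eq_zero_iff.1 (Finsupp.ext fun i => ?_)
  have h2 : x * b.repr v i = 0 := by rw [← smul_eq_mul, ← Finsupp.smul_apply, ← map_smul, h, map_zero]; rfl
  exact (mem_nonZeroDivisors_iff.1 hx).1 _ h2

theorem homology_scale (l : List R) (x : R) (hx : x ∈ nonZeroDivisors R) (q : ℤ) :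
    Nonempty ((Koszul.koszul R (l.map (fun f => x * f))).homology q ≅
      ModuleCat.of R (↥(LinearMap.ker ((Koszul.koszul R l).d q (q + 1)).hom) ⧸
        Submodule.comap (LinearMap.ker ((Koszul.koszul R l).d q (q + 1)).hom).subtype
          (Ideal.span {x} • LinearMap.range ((Koszul.koszul R l).d (q - 1) q).hom))) := by
  obtain ⟨e, he⟩ := scale x l
  let K := Koszul.koszul R (l.map (fun f => x * f))
  let S := K.sc' (q - 1) q (q + 1)
  let i1 : K.homology q ≅ S.homology := K.homologyIsoSc' (q - 1) q (q + 1) (by simp) (by simp)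
  let i2 : S.homology ≅ S.moduleCatLeftHomologyData.H := S.moduleCatHomologyIso
  haveI := free l (q + 1)
  have hker : ∀ v, dL (l.map (fun f => x * f)) q (q + 1) v = 0 ↔ dL l q (q + 1) (e q v) = 0 := fun v => by
    rw [← (e (q + 1)).map_eq_zero_iff, he q (q + 1) rfl]
    exact ⟨fun h => smul_inj hx h, fun h => by rw [h, smul_zero]⟩
  let k : LinearMap.ker (dL (l.map (fun f => x * f)) q (q + 1)) ≃ₗ[R] LinearMap.ker (dL l q (q + 1)) :=
    (e q).ofSubmodules _ _ (by
      ext w
      rw [Submodule.mem_map]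
      constructor
      · rintro ⟨v, hv, rfl⟩
        exact (hker v).1 hv
      · intro hw
        exact ⟨(e q).symm w, (hker _).2 (by rw [LinearEquiv.apply_symm_apply]; exact hw),
          (e q).apply_symm_apply w⟩)
  let i3 : (↥(LinearMap.ker (dL (l.map (fun f => x * f)) q (q + 1))) ⧸ LinearMap.range S.moduleCatToCycles) ≃ₗ[R]
      ↥(LinearMap.ker (dL l q (q + 1))) ⧸ Submodule.comap (LinearMap.ker (dL l q (q + 1))).subtype
          (Ideal.span {x} • LinearMap.range (dL l (q - 1) q)) :=
    Submodule.Quotient.equiv _ _ k (by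
      ext w
      rw [Submodule.mem_map, Submodule.mem_comap, Submodule.ideal_span_singleton_smul,
        Submodule.mem_smul_pointwise_iff_exists]
      constructor
      · rintro ⟨_, ⟨v, rfl⟩, rfl⟩
        exact ⟨_, ⟨e (q - 1) v, rfl⟩, (he (q - 1) q (by omega) v).symm⟩
      · rintro ⟨_, ⟨v, rfl⟩, hv⟩
        refine ⟨_, ⟨(e (q - 1)).symm v, rfl⟩, Subtype.ext ?_⟩
        exact ((he (q - 1) q (by omega) _).trans (by rw [LinearEquiv.apply_symm_apply])).trans hv)
  exact ⟨i1 ≪≫ i2 ≪≫ i3.toModuleIso⟩

end Groth.Agent.KoszulScale
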